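import Groth.Agent.Chow34.Emb
import Groth.Agent.ExistEasy.ChowNR.Basic

/-!
# Chow's lemma: the closure of the graph
-/

set_option autoImplicit false
set_option backward.isDefEq.respectTransparency false
set_option backward.isDefEq.respectTransparency.types false
set_option linter.style.haveILetI false

universe u

open CategoryTheory CategoryTheory.Limits AlgebraicGeometry TopologicalSpace

noncomputable section

namespace Groth.Agent.Chow34

open CohB1 (ProjSpaceOver)
open Groth.Agent.ExistEasy.ChowNR (ext_of_isSTDom isSTDom_toImage isSTDom_restrict)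

variable {X S : Scheme.{u}}

/-- A closed subscheme containing a scheme-theoretically dominant part is everything. -/
theorem isClosedImmersion_comp_of_factors {U Z Y C T : Scheme.{u}} (γ : U ⟶ Z) [IsSchemeTheoreticallyDominant γ]
    (h : Z ⟶ Y) [IsClosedImmersion h] (d : C ⟶ Y) [IsClosedImmersion d] (p : Y ⟶ T) (m : U ⟶ C)
    (hm : m ≫ d = γ ≫ h) [IsClosedImmersion (d ≫ p)] : IsClosedImmersion (h ≫ p) := by
  haveI : IsClosedImmersion (pullback.fst h d) := MorphismProperty.pullback_fst _ _ inferInstance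
  haveI : IsClosedImmersion (pullback.snd h d) := MorphismProperty.pullback_snd _ _ inferInstance
  haveI : IsIso (pullback.fst h d) := IsClosedImmersion.isIso_iff_ker_eq_bot.2 (le_bot_iff.1 (by
    refine le_trans (Scheme.Hom.le_ker_comp (pullback.lift γ m hm.symm) _) (le_of_eq ?_)
    rw [pullback.lift_fst]
    exact γ.ker_eq_bot))
  have hfac : h ≫ p = (inv (pullback.fst h d) ≫ pullback.snd h d) ≫ d ≫ p := by
    rw [Category.assoc, ← pullback.condition_assoc, IsIso.inv_hom_id_assoc]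
  rw [hfac]
  infer_instance

/-- Over the open where the immersion is closed, the closure of the graph is closed in the product. -/
theorem isClosedImmersion_restrict_of_graph {P Q V U X' : Scheme.{u}} (f : X ⟶ S) [IsSeparated f]
    (q : P ⟶ S) (pr : P ⟶ Q) {b : Q ⟶ S} (hpr : pr ≫ b = q) (vι : V ⟶ X) (t : V ⟶ Q) [IsImmersion t]
    (htb : t ≫ b = vι ≫ f) (γ : U ⟶ X') [QuasiCompact γ] [IsSchemeTheoreticallyDominant γ]
    (ι₀ : X' ⟶ pullback f q) [IsClosedImmersion ι₀] (φ : U ⟶ P) (l : U ⟶ V) (hφ : φ ≫ pr = l ≫ t)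
    (h1 : (γ ≫ ι₀) ≫ pullback.fst f q = l ≫ vι) (h2 : (γ ≫ ι₀) ≫ pullback.snd f q = φ) :
    IsClosedImmersion ((ι₀ ≫ pullback.snd f q) ∣_ (pr ⁻¹ᵁ t.coborderRange)) := by
  let W := pr ⁻¹ᵁ t.coborderRange
  let c : pullback (pr ∣_ t.coborderRange) t.liftCoborder ⟶ W.toScheme := pullback.fst _ _
  let c2 : pullback (pr ∣_ t.coborderRange) t.liftCoborder ⟶ V := pullback.snd _ _
  haveI : IsClosedImmersion c := MorphismProperty.pullback_fst _ _ inferInstance
  have hc : c2 ≫ t = c ≫ W.ι ≫ pr := by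
    refine (congrArg (c2 ≫ ·) t.liftCoborder_ι).symm.trans (Eq.trans ?_ (congrArg (c ≫ ·) (morphismRestrict_ι pr _)))
    exact (pullback.condition_assoc (f := pr ∣_ t.coborderRange) (g := t.liftCoborder) _).symm
  let d := pullback.lift (c2 ≫ vι) (c ≫ W.ι) (f := f) (g := q) (by
    rw [Category.assoc, Category.assoc, ← htb, ← hpr, reassoc_of% hc])
  let G : (pullback f q).Opens := pullback.snd f q ⁻¹ᵁ W
  have hd : Set.range d ⊆ Set.range G.ι := by
    rintro _ ⟨z, rfl⟩
    rw [Scheme.Opens.range_ι]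
    show pullback.snd f q (d z) ∈ W
    rw [← Scheme.Hom.comp_apply, pullback.lift_snd]
    exact (c z).2
  let d' := IsOpenImmersion.lift G.ι d hd
  have hd'ι : d' ≫ G.ι = d := IsOpenImmersion.lift_fac _ _ _
  have hd' : d' ≫ (pullback.snd f q ∣_ W) = c := by
    rw [← cancel_mono W.ι, Category.assoc, morphismRestrict_ι, reassoc_of% hd'ι, pullback.lift_snd]
  haveI hs : IsSeparated (pullback.snd f q) := MorphismProperty.pullback_snd _ _ inferInstance
  haveI : IsSeparated (pullback.snd f q ∣_ W) := IsZariskiLocalAtTarget.restrict hs _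
  haveI hc' : IsClosedImmersion (d' ≫ (pullback.snd f q ∣_ W)) := by rw [hd']; infer_instance
  haveI : IsClosedImmersion d' := IsClosedImmersion.of_comp d' (pullback.snd f q ∣_ W)
  haveI : IsClosedImmersion (ι₀ ∣_ G) := IsZariskiLocalAtTarget.restrict ‹IsClosedImmersion ι₀› _
  let O := ι₀ ⁻¹ᵁ G
  haveI := isSTDom_restrict γ O
  have hw : ((γ ∣_ O) ≫ (ι₀ ∣_ G) ≫ (pullback.snd f q ∣_ W)) ≫ W.ι = (γ ⁻¹ᵁ O).ι ≫ φ := by
    simp only [Category.assoc, morphismRestrict_ι]
    rw [morphismRestrict_ι_assoc]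
    erw [morphismRestrict_ι_assoc]
    rw [← h2, Category.assoc]
  let mC : (γ ⁻¹ᵁ O).toScheme ⟶ pullback (pr ∣_ t.coborderRange) t.liftCoborder :=
    pullback.lift ((γ ∣_ O) ≫ (ι₀ ∣_ G) ≫ (pullback.snd f q ∣_ W)) ((γ ⁻¹ᵁ O).ι ≫ l) (by
      rw [← cancel_mono t.coborderRange.ι, Category.assoc, morphismRestrict_ι]
      erw [reassoc_of% hw]
      rw [hφ, Category.assoc, Category.assoc, t.liftCoborder_ι])
  have hm : mC ≫ d' = (γ ∣_ O) ≫ (ι₀ ∣_ G) := by
    rw [← cancel_mono G.ι, Category.assoc, Category.assoc, hd'ι, morphismRestrict_ι]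
    erw [morphismRestrict_ι_assoc]
    refine pullback.hom_ext ?_ ?_
    · simp only [d, c2, mC, Category.assoc, pullback.lift_fst, pullback.lift_snd_assoc]
      rw [← h1, Category.assoc]
    · simp only [d, c, mC, Category.assoc, pullback.lift_snd, pullback.lift_fst_assoc]
      refine (Eq.trans ?_ hw).trans ?_
      · simp only [Category.assoc]
      · rw [← h2, Category.assoc]
  rw [morphismRestrict_comp]
  exact isClosedImmersion_comp_of_factors (γ ∣_ O) (ι₀ ∣_ G) d' (pullback.snd f q ∣_ W) mC hm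

set_option maxHeartbeats 1000000 in
/-- The closure of the graph of an open quasi-compact `U` mapped into projective spaces through
immersions of opens covering its closure. -/
theorem exists_chow_core (f : X ⟶ S) [IsSeparated f] (U : X.Opens) [QuasiCompact U.ι] {m : ℕ}
    (V : Fin m → X.Opens) (hV : ∀ k, U ≤ V k) (hcov : closure (U : Set X) ⊆ ⋃ k, (V k : Set X))
    (hemb : ∀ k, Emb ((V k).ι ≫ f)) :
    ∃ (N : ℕ) (X' : Scheme.{u}) (π : X' ⟶ X) (j : X' ⟶ ProjSpaceOver N S),
      IsImmersion j ∧ j ≫ CohB1.ProjSpaceOver.toBase N S = π ≫ f ∧ IsProper π ∧ IsIso (π ∣_ U) ∧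
      Dense ((π ⁻¹ᵁ U : X'.Opens) : Set X') ∧ Set.range π = closure (U : Set X) ∧
      (IsReduced U.toScheme → IsReduced X') ∧ (IrreducibleSpace U.toScheme → IrreducibleSpace X') ∧
      ∃ i : X' ⟶ pullback f (CohB1.ProjSpaceOver.toBase N S), IsClosedImmersion i ∧
        i ≫ pullback.fst _ _ = π ∧ i ≫ pullback.snd _ _ = j := by
  choose n t ht htb using hemb
  obtain ⟨N, P, e, pr, he, hpr, hl⟩ := exists_prod (S := S) m n
  have htU : ∀ k, (X.homOfLE (hV k) ≫ t k) ≫ CohB1.ProjSpaceOver.toBase (n k) S = U.ι ≫ f := fun k => by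
    rw [Category.assoc, htb, Scheme.homOfLE_ι_assoc]
  obtain ⟨φ, hφb, hφ⟩ := hl (U.ι ≫ f) _ htU
  let q := e ≫ CohB1.ProjSpaceOver.toBase N S
  haveI : IsProper q := MorphismProperty.comp_mem @IsProper _ _ (haveI := he; inferInstance) inferInstance
  let graph : U.toScheme ⟶ pullback f q := pullback.lift U.ι φ hφb.symm
  haveI : QuasiCompact graph := by
    haveI : QuasiCompact (graph ≫ pullback.fst f q) := by rw [pullback.lift_fst]; infer_instance
    exact QuasiCompact.of_comp graph (pullback.fst f q)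
  let ι₀ := graph.imageι
  let γ := graph.toImage
  haveI : IsSchemeTheoreticallyDominant γ := isSTDom_toImage graph
  let π := ι₀ ≫ pullback.fst f q
  let q' := ι₀ ≫ pullback.snd f q
  have hγι : γ ≫ ι₀ = graph := graph.toImage_imageι
  have hγπ : γ ≫ π = U.ι := by simp only [π, reassoc_of% hγι, graph, pullback.lift_fst]
  have hγq : γ ≫ q' = φ := by simp only [q', reassoc_of% hγι, graph, pullback.lift_snd]
  have hπf : π ≫ f = q' ≫ q := by simp only [π, q', Category.assoc, pullback.condition]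
  haveI : IsClosedImmersion ι₀ := inferInstanceAs (IsClosedImmersion (Scheme.IdealSheafData.subschemeι _))
  haveI : IsProper (pullback.fst f q) := MorphismProperty.pullback_fst _ _ inferInstance
  haveI hπ : IsProper π := MorphismProperty.comp_mem @IsProper _ _ (inferInstance : IsProper ι₀) inferInstance
  have hdense : Dense (Set.range γ) := γ.denseRange
  have hπU : ∀ x, π (γ x) ∈ U := fun x => by
    rw [← Scheme.Hom.comp_apply, hγπ]; exact x.2
  have hrange : Set.range π = closure (U : Set X) := by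
    refine Set.Subset.antisymm ?_ (closure_minimal (fun x hx => ⟨γ ⟨x, hx⟩, by rw [← Scheme.Hom.comp_apply, hγπ]; rfl⟩)
      π.isClosedMap.isClosed_range)
    rintro _ ⟨x, rfl⟩
    refine closure_mono ?_ (image_closure_subset_closure_image π.continuous ⟨x, hdense x, rfl⟩)
    rintro _ ⟨_, ⟨w, rfl⟩, rfl⟩
    exact hπU w
  let W : Fin m → P.Opens := fun k => pr k ⁻¹ᵁ (t k).coborderRange
  have hO : ∀ k (x : graph.image), π x ∈ V k → q' x ∈ W k := by
    intro k x hx
    let O := π ⁻¹ᵁ V k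
    haveI := isSTDom_restrict γ O
    have hab : π.resLE (V k) O le_rfl ≫ t k = O.ι ≫ q' ≫ pr k := by
      refine ext_of_isSTDom (CohB1.ProjSpaceOver.toBase (n k) S) ?_ (γ ∣_ O) ?_
      · simp only [Category.assoc, htb, Scheme.Hom.resLE_comp_ι_assoc, hpr, hπf, q]
      · have h1 : (γ ∣_ O) ≫ π.resLE (V k) O le_rfl = (γ ⁻¹ᵁ O).ι ≫ X.homOfLE (hV k) := by
          rw [← cancel_mono (V k).ι, Category.assoc, Category.assoc, Scheme.Hom.resLE_comp_ι,
            morphismRestrict_ι_assoc, Scheme.homOfLE_ι, hγπ]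
        rw [reassoc_of% h1, morphismRestrict_ι_assoc, reassoc_of% hγq, hφ]
    show pr k (q' x) ∈ (t k).coborderRange
    have h2 : pr k (q' x) = t k (π.resLE (V k) O le_rfl (⟨x, hx⟩ : O)) := by
      rw [← Scheme.Hom.comp_apply (π.resLE (V k) O le_rfl) (t k), hab]; rfl
    rw [h2]
    exact subset_coborder ⟨_, rfl⟩
  have hclosed : ∀ k, IsClosedImmersion (q' ∣_ W k) := fun k => by
    haveI := ht k
    exact isClosedImmersion_restrict_of_graph f q (pr k) (hpr k) (V k).ι (t k) (htb k) γ ι₀ φ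
      (X.homOfLE (hV k)) (hφ k) (by rw [hγι, Scheme.homOfLE_ι]; exact pullback.lift_fst _ _ _)
      (by rw [hγι]; exact pullback.lift_snd _ _ _)
  haveI : MorphismProperty.RespectsRight @IsImmersion @IsOpenImmersion :=
    ⟨fun i hi g hg => by haveI : IsOpenImmersion i := hi; haveI : IsImmersion g := hg; exact inferInstanceAs (IsImmersion (g ≫ i))⟩
  haveI hq' : IsImmersion q' := by
    refine IsZariskiLocalAtTarget.of_range_subset_iSup (P := @IsImmersion) W ?_ fun k => ?_
    · rintro _ ⟨x, rfl⟩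
      have hx : π x ∈ closure (U : Set X) := hrange.le ⟨x, rfl⟩
      obtain ⟨k, hk⟩ := Set.mem_iUnion.1 (hcov hx)
      exact Opens.mem_iSup.2 ⟨k, hO k x hk⟩
    · haveI := hclosed k
      infer_instance
  haveI := he
  refine ⟨N, graph.image, π, q' ≫ e, inferInstance, by rw [Category.assoc, hπf], hπ, ?_,
    hdense.mono (by rintro _ ⟨w, rfl⟩; exact hπU w), hrange, fun hU => ⟨fun O => ?_⟩, fun hU => ?_,
    ι₀ ≫ pullback.map f q f (CohB1.ProjSpaceOver.toBase N S) (𝟙 X) e (𝟙 S) (by simp) (by simp [q]), ?_, ?_, ?_⟩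
  · have hr : Set.range γ ⊆ Set.range (π ⁻¹ᵁ U).ι := by
      rintro _ ⟨y, rfl⟩
      rw [Scheme.Opens.range_ι]
      exact hπU y
    let g := IsOpenImmersion.lift (π ⁻¹ᵁ U).ι γ hr
    have hg : g ≫ (π ⁻¹ᵁ U).ι = γ := IsOpenImmersion.lift_fac _ _ _
    refine ⟨g, ?_, ?_⟩
    · haveI := isSTDom_restrict γ (π ⁻¹ᵁ U)
      rw [← cancel_mono (π ⁻¹ᵁ U).ι, Category.id_comp, Category.assoc, hg]
      refine ext_of_isSTDom π ?_ (γ ∣_ (π ⁻¹ᵁ U)) ?_
      · rw [Category.assoc, hγπ, morphismRestrict_ι]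
      · have h2 : (γ ∣_ (π ⁻¹ᵁ U)) ≫ (π ∣_ U) = (γ ⁻¹ᵁ (π ⁻¹ᵁ U)).ι := by
          rw [← cancel_mono U.ι, Category.assoc, morphismRestrict_ι, morphismRestrict_ι_assoc, hγπ]
        rw [reassoc_of% h2, morphismRestrict_ι]
    · rw [← cancel_mono U.ι, Category.assoc, morphismRestrict_ι, reassoc_of% hg, hγπ, Category.id_comp]
  · haveI := hU
    exact isReduced_of_injective _ (Scheme.Hom.app_injective γ O)
  · haveI := hU
    have h1 : IsIrreducible (Set.univ : Set graph.image) := by
      rw [← hdense.closure_eq]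
      exact (Set.image_univ (f := γ) ▸ (IrreducibleSpace.isIrreducible_univ U.toScheme).image γ γ.continuous.continuousOn).closure
    exact (irreducibleSpace_def _).2 h1
  · haveI : IsClosedImmersion (pullback.map f q f (CohB1.ProjSpaceOver.toBase N S) (𝟙 X) e (𝟙 S) (by simp) (by simp [q])) :=
      MorphismProperty.pullbackMap (P := @IsClosedImmersion) inferInstance he (Category.id_comp _).symm rfl
    infer_instance
  · simp [π]
  · simp [q']

end Groth.Agent.Chow34
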