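import Groth.Agent.SegreX.Basic
import Groth.Prelude.Def_CohB1
import Groth.Agent.PnCoh.Chow.Proper
import Mathlib.AlgebraicGeometry.Morphisms.Immersion
import Mathlib.AlgebraicGeometry.Limits

/-!
# Immersions into projective spaces over a base: products and disjoint unions
-/

set_option autoImplicit false
set_option backward.isDefEq.respectTransparency false
set_option backward.isDefEq.respectTransparency.types false
set_option linter.style.haveILetI false

universe u

open CategoryTheory CategoryTheory.Limits AlgebraicGeometry TopologicalSpace MvPolynomial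

noncomputable section

namespace Groth.Agent.Chow34

open CohB1 (ProjSpaceOver)
open Groth.Agent.SegreX

variable {S : Scheme.{u}}

instance (n : ℕ) (S : Scheme.{u}) : IsProper (CohB1.ProjSpaceOver.toBase n S) :=
  MorphismProperty.pullback_snd _ _ (PnCoh.Chow.isProper_toSpec n (ULift.{u} ℤ))

/-- An immersion into some projective space over the base. -/
def Emb {X : Scheme.{u}} (f : X ⟶ S) : Prop :=
  ∃ (n : ℕ) (t : X ⟶ ProjSpaceOver n S), IsImmersion t ∧ t ≫ CohB1.ProjSpaceOver.toBase n S = f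

theorem Emb.comp_left {X Y : Scheme.{u}} {f : X ⟶ S} (h : Emb f) (g : Y ⟶ X) [IsImmersion g] :
    Emb (g ≫ f) := by
  obtain ⟨n, t, ht, hf⟩ := h
  exact ⟨n, g ≫ t, inferInstance, by rw [Category.assoc, hf]⟩

theorem exists_segreS (a b : ℕ) :
    ∃ (c : ℕ) (e : pullback (CohB1.ProjSpaceOver.toBase a S) (CohB1.ProjSpaceOver.toBase b S) ⟶
      ProjSpaceOver c S), IsClosedImmersion e ∧
      e ≫ CohB1.ProjSpaceOver.toBase c S = pullback.fst _ _ ≫ CohB1.ProjSpaceOver.toBase a S := by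
  obtain ⟨σ⟩ : Nonempty (Fin (a * b + a + b + 1) ≃ Fin (a + 1) × Fin (b + 1)) :=
    ⟨(finCongr (by ring)).trans finProdFinEquiv.symm⟩
  let i : pullback (CohB1.ProjSpaceOver.toBase a S) (CohB1.ProjSpaceOver.toBase b S) ≅
      pullback (specULiftZIsTerminal.from (PP.{u} a b)) (specULiftZIsTerminal.from S) :=
    { hom := pullback.lift
        (pullback.lift (pullback.fst _ _ ≫ pullback.fst _ _) (pullback.snd _ _ ≫ pullback.fst _ _)
          (specULiftZIsTerminal.hom_ext _ _))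
        (pullback.fst _ _ ≫ CohB1.ProjSpaceOver.toBase a S) (specULiftZIsTerminal.hom_ext _ _)
      inv := pullback.lift
        (pullback.lift (pullback.fst _ _ ≫ pullback.fst _ _) (pullback.snd _ _) (specULiftZIsTerminal.hom_ext _ _))
        (pullback.lift (pullback.fst _ _ ≫ pullback.snd _ _) (pullback.snd _ _) (specULiftZIsTerminal.hom_ext _ _))
        (by simp [CohB1.ProjSpaceOver.toBase])
      hom_inv_id := by
        apply pullback.hom_ext <;> apply pullback.hom_ext <;>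
          simp [CohB1.ProjSpaceOver.toBase, pullback.condition]
      inv_hom_id := by
        apply pullback.hom_ext
        · apply pullback.hom_ext <;> simp
        · simp [CohB1.ProjSpaceOver.toBase] }
  refine ⟨_, i.hom ≫ pullback.map (specULiftZIsTerminal.from (PP.{u} a b)) (specULiftZIsTerminal.from S)
    (CohB1.ProjSpace.toSpec (a * b + a + b) (ULift.{u} ℤ)) (specULiftZIsTerminal.from S) (segre σ) (𝟙 S) (𝟙 _)
    (specULiftZIsTerminal.hom_ext _ _) (by simp), ?_, ?_⟩
  · haveI : IsIso i.hom := Iso.isIso_hom i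
    haveI hi : IsClosedImmersion i.hom := inferInstance
    exact MorphismProperty.comp_mem @IsClosedImmersion _ _ hi
      (MorphismProperty.pullbackMap (P := @IsClosedImmersion) (isClosedImmersion_segre.{u} σ) inferInstance
        (specULiftZIsTerminal.hom_ext _ _) (Category.id_comp _).symm)
  · simp [i, CohB1.ProjSpaceOver.toBase]

theorem exists_section (n : ℕ) :
    ∃ σ : S ⟶ ProjSpaceOver n S, σ ≫ CohB1.ProjSpaceOver.toBase n S = 𝟙 S :=
  ⟨pullback.lift (ptS (fun _ => (1 : Γ(S, ⊤))) 0 isUnit_one) (𝟙 S) (specULiftZIsTerminal.hom_ext _ _),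
    pullback.lift_snd _ _ _⟩

/-- The product of finitely many projective spaces embeds into one. -/
theorem exists_prod : ∀ (m : ℕ) (n : Fin m → ℕ),
    ∃ (N : ℕ) (P : Scheme.{u}) (e : P ⟶ ProjSpaceOver N S) (π : ∀ k, P ⟶ ProjSpaceOver (n k) S),
      IsClosedImmersion e ∧
      (∀ k, π k ≫ CohB1.ProjSpaceOver.toBase (n k) S = e ≫ CohB1.ProjSpaceOver.toBase N S) ∧
      ∀ {T : Scheme.{u}} (g : T ⟶ S) (t : ∀ k, T ⟶ ProjSpaceOver (n k) S),
        (∀ k, t k ≫ CohB1.ProjSpaceOver.toBase (n k) S = g) →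
        ∃ φ : T ⟶ P, φ ≫ e ≫ CohB1.ProjSpaceOver.toBase N S = g ∧ ∀ k, φ ≫ π k = t k := by
  intro m
  induction m with
  | zero =>
    intro n
    obtain ⟨σ, hσ⟩ := exists_section (S := S) 0
    refine ⟨0, ProjSpaceOver 0 S, 𝟙 _, fun k => k.elim0, inferInstance, fun k => k.elim0, fun g t _ => ?_⟩
    exact ⟨g ≫ σ, by rw [Category.id_comp, Category.assoc, hσ, Category.comp_id], fun k => k.elim0⟩
  | succ m ih =>
    intro n
    obtain ⟨N', P', e', π', he', hπ', hl'⟩ := ih (fun k => n k.succ)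
    obtain ⟨c, s, hs, hsb⟩ := exists_segreS (S := S) (n 0) N'
    let mp : pullback (CohB1.ProjSpaceOver.toBase (n 0) S) (e' ≫ CohB1.ProjSpaceOver.toBase N' S) ⟶
        pullback (CohB1.ProjSpaceOver.toBase (n 0) S) (CohB1.ProjSpaceOver.toBase N' S) :=
      pullback.map _ _ _ _ (𝟙 _) e' (𝟙 S) (by simp) (by simp)
    haveI : IsClosedImmersion mp :=
      MorphismProperty.pullbackMap (P := @IsClosedImmersion) inferInstance he' (Category.id_comp _).symm rfl
    have hbase : (mp ≫ s) ≫ CohB1.ProjSpaceOver.toBase c S =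
        pullback.fst _ _ ≫ CohB1.ProjSpaceOver.toBase (n 0) S := by
      rw [Category.assoc, hsb]
      simp [mp]
    refine ⟨c, _, mp ≫ s, Fin.cons (α := fun k => pullback (CohB1.ProjSpaceOver.toBase (n 0) S)
      (e' ≫ CohB1.ProjSpaceOver.toBase N' S) ⟶ ProjSpaceOver (n k) S) (pullback.fst _ _)
      (fun k => pullback.snd _ _ ≫ π' k), inferInstance, fun k => ?_, ?_⟩
    · rw [hbase]
      induction k using Fin.cases with
      | zero => rfl
      | succ k => rw [Fin.cons_succ, Category.assoc, hπ', pullback.condition]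
    · intro T g t ht
      obtain ⟨φ', hφ', hπφ'⟩ := hl' g (fun k => t k.succ) (fun k => ht k.succ)
      refine ⟨pullback.lift (t 0) φ' (by rw [ht, hφ']), ?_, fun k => ?_⟩
      · rw [hbase, pullback.lift_fst_assoc, ht]
      · induction k using Fin.cases with
        | zero => rw [Fin.cons_zero, pullback.lift_fst]
        | succ k => rw [Fin.cons_succ, pullback.lift_snd_assoc, hπφ']

theorem exists_two_points :
    ∃ (p : Fin 2 → (S ⟶ ProjSpaceOver 1 S)) (D : Fin 2 → (ProjSpaceOver 1 S).Opens),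
      (∀ i, p i ≫ CohB1.ProjSpaceOver.toBase 1 S = 𝟙 S) ∧
      ∀ i j, p i ⁻¹ᵁ D j = if i = j then ⊤ else ⊥ := by
  let s : Fin 2 → Fin (1 + 1) → Γ(S, ⊤) := fun i l => if i = l then 1 else 0
  refine ⟨fun i => pullback.lift (ptS (s i) i (by simp [s])) (𝟙 S) (specULiftZIsTerminal.hom_ext _ _),
    fun j => pullback.fst (CohB1.ProjSpace.toSpec 1 (ULift.{u} ℤ)) (specULiftZIsTerminal.from S) ⁻¹ᵁ Proj.basicOpen (CohB1.polyGrading 1 (ULift.{u} ℤ)) (MvPolynomial.X j),
    fun i => pullback.lift_snd _ _ _, fun i j => ?_⟩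
  refine ((Scheme.Hom.comp_preimage _ _ _).symm.trans ?_)
  simp only [pullback.lift_fst]
  refine (ptS_preimage _ _ _ _).trans ?_
  by_cases h : i = j
  · simp only [s, h, if_true]
    exact S.basicOpen_of_isUnit isUnit_one
  · simp only [s, h, if_false]
    exact Scheme.basicOpen_zero _ _

theorem Emb.of_disjoint {X : Scheme.{u}} (f : X ⟶ S) (A B : X.Opens) (hd : Disjoint A B)
    (hc : A ⊔ B = ⊤) (hA : Emb (A.ι ≫ f)) (hB : Emb (B.ι ≫ f)) : Emb f := by
  obtain ⟨a, tA, htA, htA'⟩ := hA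
  obtain ⟨b, tB, htB, htB'⟩ := hB
  obtain ⟨σa, hσa⟩ := exists_section (S := S) a
  obtain ⟨σb, hσb⟩ := exists_section (S := S) b
  obtain ⟨p, D, hp, hD⟩ := exists_two_points (S := S)
  obtain ⟨N, P, e, π, he, hπ, hl⟩ := exists_prod (S := S) 3 ![a, b, 1]
  let U : Fin 2 → X.Opens := ![A, B]
  let tU : ∀ i, ∀ k, (U i).toScheme ⟶ ProjSpaceOver (![a, b, 1] k) S :=
    Fin.cases (Fin.cases tA (Fin.cases ((A.ι ≫ f) ≫ σb) (Fin.cases ((A.ι ≫ f) ≫ p 0) (fun k => k.elim0))))
      (Fin.cases (Fin.cases ((B.ι ≫ f) ≫ σa) (Fin.cases tB (Fin.cases ((B.ι ≫ f) ≫ p 1) (fun k => k.elim0)))) (fun i => i.elim0))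
  have htU : ∀ i k, tU i k ≫ CohB1.ProjSpaceOver.toBase _ S = (U i).ι ≫ f := by
    intro i k
    fin_cases i <;> fin_cases k
    · exact htA'
    · exact (Category.assoc _ _ _).trans ((congrArg ((A.ι ≫ f) ≫ ·) hσb).trans (Category.comp_id _))
    · exact (Category.assoc _ _ _).trans ((congrArg ((A.ι ≫ f) ≫ ·) (hp 0)).trans (Category.comp_id _))
    · exact (Category.assoc _ _ _).trans ((congrArg ((B.ι ≫ f) ≫ ·) hσa).trans (Category.comp_id _))
    · exact htB'
    · exact (Category.assoc _ _ _).trans ((congrArg ((B.ι ≫ f) ≫ ·) (hp 1)).trans (Category.comp_id _))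
  choose φ hφb hφ using fun i => hl _ (tU i) (htU i)
  have hU : (⨆ i, U i) = ⊤ :=
    top_le_iff.1 (hc.ge.trans (sup_le (le_iSup U 0) (le_iSup U 1)))
  have hdU : ∀ i j, i ≠ j → Disjoint (U i : Set X) (U j : Set X) := by
    have h : Disjoint (A : Set X) (B : Set X) := Set.disjoint_left.2 fun x hx hx' => (disjoint_iff_inf_le.1 hd) ⟨hx, hx'⟩
    intro i j hij
    fin_cases i <;> fin_cases j <;> first | exact (hij rfl).elim | exact h | exact h.symm
  have hglue : ∀ i j : Fin 2, pullback.fst (U i).ι (U j).ι ≫ φ i = pullback.snd _ _ ≫ φ j := by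
    intro i j
    by_cases hij : i = j
    · subst hij
      rw [(cancel_mono (U i).ι).1 (pullback.condition (f := (U i).ι) (g := (U i).ι))]
    · haveI : IsEmpty (pullback (U i).ι (U j).ι : Scheme.{u}) := ⟨fun z => by
        have h1 : (U i).ι (pullback.fst (U i).ι (U j).ι z) = (U j).ι (pullback.snd (U i).ι (U j).ι z) := by
          rw [← Scheme.Hom.comp_apply, ← Scheme.Hom.comp_apply, pullback.condition]
        have h2 : (pullback.fst (U i).ι (U j).ι z).1 = (pullback.snd (U i).ι (U j).ι z).1 := h1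
        refine Set.disjoint_left.1 (hdU i j hij) (pullback.fst (U i).ι (U j).ι z).2 ?_
        rw [h2]
        exact (pullback.snd (U i).ι (U j).ι z).2⟩
      exact isInitialOfIsEmpty.hom_ext _ _
  let 𝒰 := X.openCoverOfIsOpenCover U hU
  let Φ : X ⟶ P := 𝒰.glueMorphisms φ hglue
  have hΦ : ∀ i, (U i).ι ≫ Φ = φ i := fun i => Scheme.Cover.ι_glueMorphisms 𝒰 _ _ i
  refine ⟨N, Φ ≫ e, ?_, ?_⟩
  swap
  · refine Scheme.Cover.hom_ext 𝒰 _ _ fun i => ?_
    show (U i).ι ≫ _ = (U i).ι ≫ f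
    rw [Category.assoc, reassoc_of% hΦ, hφb]
  haveI := he
  suffices IsImmersion Φ from inferInstance
  let E : Fin 2 → P.Opens := fun j => π 2 ⁻¹ᵁ D j
  have hφE : ∀ i j, φ i ⁻¹ᵁ E j = if i = j then ⊤ else ⊥ := fun i j => by
    rw [show φ i ⁻¹ᵁ E j = (φ i ≫ π 2) ⁻¹ᵁ D j from rfl, hφ]
    have : tU i 2 = ((U i).ι ≫ f) ≫ p i := by fin_cases i <;> rfl
    rw [this, Scheme.Hom.comp_preimage, hD]
    split <;> rfl
  have hpre : ∀ j, Φ ⁻¹ᵁ E j = U j := fun j => by
    refine Opens.ext (Set.ext fun x => ?_)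
    obtain ⟨i, hi⟩ := Opens.mem_iSup.1 (hU.ge (trivial : x ∈ (⊤ : X.Opens)))
    have hx : x ∈ Φ ⁻¹ᵁ E j ↔ (⟨x, hi⟩ : U i) ∈ φ i ⁻¹ᵁ E j := by
      rw [← hΦ]; rfl
    show x ∈ Φ ⁻¹ᵁ E j ↔ x ∈ U j
    rw [hx, hφE]
    by_cases h : i = j
    · subst h; simp [hi]
    · rw [if_neg h]
      exact iff_of_false (fun h' => h') (fun hx' => Set.disjoint_left.1 (hdU i j h) hi hx')
  haveI : ∀ i, IsImmersion (φ i) := fun i => by
    fin_cases i
    · haveI : IsImmersion (φ 0 ≫ π 0) := by rw [hφ]; exact htA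
      exact MorphismProperty.of_postcomp (W := @IsImmersion) (W' := ⊤) (φ 0) (π 0) trivial this
    · haveI : IsImmersion (φ 1 ≫ π 1) := by rw [hφ]; exact htB
      exact MorphismProperty.of_postcomp (W := @IsImmersion) (W' := ⊤) (φ 1) (π 1) trivial this
  haveI : MorphismProperty.RespectsRight @IsImmersion @IsOpenImmersion :=
    ⟨fun i hi g hg => by haveI : IsOpenImmersion i := hi; haveI : IsImmersion g := hg; exact inferInstanceAs (IsImmersion (g ≫ i))⟩
  refine IsZariskiLocalAtTarget.of_range_subset_iSup (P := @IsImmersion) E ?_ fun j => ?_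
  · rintro _ ⟨x, rfl⟩
    obtain ⟨i, hi⟩ := Opens.mem_iSup.1 (hU.ge (trivial : x ∈ (⊤ : X.Opens)))
    exact Opens.mem_iSup.2 ⟨i, ((hpre i).ge hi : x ∈ Φ ⁻¹ᵁ E i)⟩
  · refine MorphismProperty.of_postcomp (W := @IsImmersion) (W' := ⊤) _ (E j).ι trivial ?_
    rw [morphismRestrict_ι, ← X.isoOfEq_hom_ι (hpre j), Category.assoc, hΦ]
    infer_instance

/-- Finitely many disjoint opens with immersions. -/
theorem Emb.of_finset_disjoint {X : Scheme.{u}} (f : X ⟶ S) {ι : Type*} [DecidableEq ι] (U : ι → X.Opens)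
    (s : Finset ι) (hd : (s : Set ι).Pairwise (Function.onFun Disjoint U)) (hU : ∀ i ∈ s, Emb ((U i).ι ≫ f)) :
    Emb ((s.sup U).ι ≫ f) := by
  induction s using Finset.induction with
  | empty =>
    obtain ⟨σ, hσ⟩ := exists_section (S := S) 0
    haveI : IsEmpty ((∅ : Finset ι).sup U : X.Opens).toScheme := ⟨fun x => by
      have h : x.1 ∈ (∅ : Finset ι).sup U := x.2
      exact (show x.1 ∈ (⊥ : X.Opens) from Finset.sup_empty (f := U) ▸ h)⟩
    exact ⟨0, ((∅ : Finset ι).sup U).ι ≫ f ≫ σ, inferInstance, isInitialOfIsEmpty.hom_ext _ _⟩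
  | insert i s his ih =>
    let W := (insert i s).sup U
    have hle : U i ≤ W := Finset.le_sup (f := U) (Finset.mem_insert_self i s)
    have hle' : s.sup U ≤ W := Finset.sup_mono (Finset.subset_insert i s)
    have key : ∀ V : X.Opens, V ≤ W → Emb (V.ι ≫ f) → Emb ((W.ι ⁻¹ᵁ V).ι ≫ W.ι ≫ f) := fun V hV h => by
      let g := IsOpenImmersion.lift V.ι ((W.ι ⁻¹ᵁ V).ι ≫ W.ι) (by
        rintro _ ⟨x, rfl⟩; rw [Scheme.Opens.range_ι]; exact x.2)
      haveI : IsOpenImmersion g := by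
        haveI : IsOpenImmersion (g ≫ V.ι) := by rw [IsOpenImmersion.lift_fac]; infer_instance
        exact IsOpenImmersion.of_comp g V.ι
      have := h.comp_left g
      rwa [IsOpenImmersion.lift_fac_assoc, Category.assoc] at this
    refine Emb.of_disjoint (W.ι ≫ f) (W.ι ⁻¹ᵁ U i) (W.ι ⁻¹ᵁ s.sup U) ?_ ?_ (key _ hle (hU i (Finset.mem_insert_self i s)))
      (key _ hle' (ih (hd.mono (Finset.coe_subset.2 (Finset.subset_insert i s)))
        fun j hj => hU j (Finset.mem_insert_of_mem hj)))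
    · refine disjoint_iff_inf_le.2 fun x hx => ?_
      obtain ⟨j, hj, hxj⟩ : ∃ j ∈ s, W.ι x ∈ U j := by
        simpa [Finset.sup_eq_iSup] using hx.2
      have hne : i ≠ j := fun e => his (e ▸ hj)
      exact ((disjoint_iff_inf_le.1 (hd (Finset.mem_insert_self i s) (Finset.mem_insert_of_mem hj) hne))
        (show W.ι x ∈ U i ⊓ U j from ⟨hx.1, hxj⟩)).elim
    · refine top_le_iff.1 fun x _ => ?_
      have hx : x.1 ∈ (insert i s).sup U := x.2
      rw [Finset.sup_insert] at hx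
      exact hx

end Groth.Agent.Chow34
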