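import Groth.Agent.Chow34.Core
import Groth.Agent.DeformNL.Factor
import Groth.Agent.HTop74.SigmaProper
import Mathlib.Topology.Sober

/-!
# Chow's lemma over a quasi-compact quasi-separated base
-/

set_option autoImplicit false
set_option backward.isDefEq.respectTransparency false
set_option backward.isDefEq.respectTransparency.types false
set_option linter.style.haveILetI false

universe u

open CategoryTheory CategoryTheory.Limits AlgebraicGeometry TopologicalSpace

noncomputable section

namespace Groth.Agent.Chow34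

open CohB1 (ProjSpaceOver)

variable {X S : Scheme.{u}}

/-- Small affine opens embed into projective spaces over the base. -/
theorem exists_emb_affine (f : X ⟶ S) [LocallyOfFiniteType f] (x : X) (O : X.Opens) (hx : x ∈ O) :
    ∃ A : X.Opens, IsAffineOpen A ∧ x ∈ A ∧ A ≤ O ∧ Emb (A.ι ≫ f) := by
  obtain ⟨_, ⟨T, hT, rfl⟩, hxT, -⟩ := S.isBasis_affineOpens.exists_subset_of_mem_open (Set.mem_univ (f x)) isOpen_univ
  obtain ⟨_, ⟨A, hA, rfl⟩, hxA, hAle⟩ := X.isBasis_affineOpens.exists_subset_of_mem_open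
    (show x ∈ O ⊓ f ⁻¹ᵁ T from ⟨hx, hxT⟩) (O ⊓ f ⁻¹ᵁ T).2
  haveI : IsAffine (Scheme.Opens.toScheme (X := X) A) := hA
  obtain ⟨n, t, ht, htb⟩ := DeformNL.exists_immersion_projSpaceOver hT (f.resLE T A fun y hy => (hAle hy).2)
  exact ⟨A, hA, hxA, fun y hy => (hAle hy).1, n, t, ht, by rw [htb, Scheme.Hom.resLE_comp_ι]⟩

theorem compactSpace_of (f : X ⟶ S) [QuasiCompact f] [CompactSpace S] : CompactSpace X :=
  QuasiCompact.compactSpace_of_compactSpace f

/-- A finite cover by affine opens embedding into projective spaces. -/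
theorem exists_emb_cover (f : X ⟶ S) [LocallyOfFiniteType f] [QuasiCompact f] [CompactSpace S] :
    ∃ (m : ℕ) (V : Fin m → X.Opens), (∀ x, ∃ k, x ∈ V k) ∧ ∀ k, IsAffineOpen (V k) ∧ Emb ((V k).ι ≫ f) := by
  haveI := compactSpace_of f
  choose A hA hxA _ hAe using fun x : X => exists_emb_affine f x ⊤ trivial
  obtain ⟨T, hT⟩ := isCompact_univ.elim_finite_subcover (fun x : X => (A x : Set X))
    (fun x => (A x).2) (fun x _ => Set.mem_iUnion.2 ⟨x, hxA x⟩)
  refine ⟨T.card, fun k => A (T.equivFin.symm k).1, fun x => ?_, fun k => ⟨hA _, hAe _⟩⟩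
  obtain ⟨t, ht, hxt⟩ := Set.mem_iUnion₂.1 (hT (Set.mem_univ x))
  exact ⟨T.equivFin ⟨t, ht⟩, by simpa using hxt⟩

theorem quasiCompact_ι [QuasiSeparatedSpace X] (U : X.Opens) (hU : IsCompact (U : Set X)) :
    QuasiCompact U.ι := by
  haveI : CompactSpace U.toScheme := isCompact_iff_compactSpace.1 hU
  exact quasiCompact_of_compactSpace U.ι

theorem qsep_of (f : X ⟶ S) [IsSeparated f] [QuasiSeparatedSpace S] : QuasiSeparatedSpace X :=
  quasiSeparatedSpace_of_quasiSeparated f

theorem isCompact_inf {ι : Type*} [CompactSpace X] [QuasiSeparatedSpace X] (s : Finset ι) (V : ι → X.Opens)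
    (hV : ∀ i ∈ s, IsCompact (V i : Set X)) : IsCompact ((s.inf V : X.Opens) : Set X) := by
  classical
  induction s using Finset.induction with
  | empty => simpa using isCompact_univ
  | insert i s _ ih =>
    rw [Finset.inf_insert, Opens.coe_inf]
    exact QuasiSeparatedSpace.inter_isCompact _ _ (V i).2 (hV i (Finset.mem_insert_self i s))
      (s.inf V).2 (ih fun j hj => hV j (Finset.mem_insert_of_mem hj))

/-- Some nonempty open of `X`, quasi-compact, with the closure covered by opens containing it. -/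
theorem exists_chow_nonempty (f : X ⟶ S) [IsSeparated f] [LocallyOfFiniteType f] [QuasiCompact f]
    [CompactSpace S] [QuasiSeparatedSpace S] [Nonempty X] :
    ∃ (N : ℕ) (X' : Scheme.{u}) (π : X' ⟶ X) (j : X' ⟶ ProjSpaceOver N S) (U : X.Opens),
      IsImmersion j ∧ j ≫ CohB1.ProjSpaceOver.toBase N S = π ≫ f ∧ IsProper π ∧ (U : Set X).Nonempty ∧
      IsIso (π ∣_ U) ∧ Dense ((π ⁻¹ᵁ U : X'.Opens) : Set X') ∧
      ∃ i : X' ⟶ pullback f (CohB1.ProjSpaceOver.toBase N S), IsClosedImmersion i ∧
        i ≫ pullback.fst _ _ = π ∧ i ≫ pullback.snd _ _ = j := by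
  classical
  haveI := compactSpace_of f
  haveI := qsep_of f
  obtain ⟨m, V, hcov, hV⟩ := exists_emb_cover f
  let P : Finset (Fin m) → Prop := fun K => ((K.inf V : X.Opens) : Set X).Nonempty
  obtain ⟨K, hK, hmax⟩ := (Finset.univ.filter P).exists_max_image Finset.card
    ⟨∅, Finset.mem_filter.2 ⟨Finset.mem_univ _, by simp [P]⟩⟩
  obtain ⟨y, hy⟩ := (Finset.mem_filter.1 hK).2
  obtain ⟨_, ⟨U, hU, rfl⟩, hyU, hUK⟩ := X.isBasis_affineOpens.exists_subset_of_mem_open hy (K.inf V).2
  haveI := quasiCompact_ι U hU.isCompact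
  let e : Fin K.card ≃ K := K.equivFin.symm
  obtain ⟨N, X', π, j, hj, hjb, hπ, hiso, hd, -, -, -, hi⟩ := exists_chow_core f U (fun i => V (e i).1)
    (fun i => (show U ≤ K.inf V from hUK).trans (Finset.inf_le (e i).2)) (fun z hz => by
      obtain ⟨l, hl⟩ := hcov z
      obtain ⟨w, hwl, hwU⟩ := mem_closure_iff.1 hz _ (V l).2 hl
      have hlK : l ∈ K := by
        by_contra h
        have h1 := hmax (insert l K) (Finset.mem_filter.2 ⟨Finset.mem_univ _, w, by
          rw [Finset.inf_insert]; exact ⟨hwl, hUK hwU⟩⟩)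
        rw [Finset.card_insert_of_notMem h] at h1
        omega
      refine Set.mem_iUnion.2 ⟨e.symm ⟨l, hlK⟩, ?_⟩
      rw [Equiv.apply_symm_apply]
      exact hl) (fun i => (hV _).2)
  exact ⟨N, X', π, j, U, hj, hjb, hπ, ⟨y, hyU⟩, hiso, hd, hi⟩

/-- Chow's lemma with a dense open, for finitely many irreducible components. -/
theorem exists_chow_dense (f : X ⟶ S) [IsSeparated f] [LocallyOfFiniteType f] [QuasiCompact f]
    [CompactSpace S] [QuasiSeparatedSpace S] (hirr : (irreducibleComponents X).Finite) :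
    ∃ (N : ℕ) (X' : Scheme.{u}) (π : X' ⟶ X) (j : X' ⟶ ProjSpaceOver N S) (U : X.Opens),
      IsImmersion j ∧ j ≫ CohB1.ProjSpaceOver.toBase N S = π ≫ f ∧ IsProper π ∧ Surjective π ∧
      Dense (U : Set X) ∧ IsIso (π ∣_ U) ∧ Dense ((π ⁻¹ᵁ U : X'.Opens) : Set X') ∧
      (IsReduced X → IsReduced X') ∧ (IrreducibleSpace X → IrreducibleSpace X') ∧
      (IsIntegral X → IsIntegral X') ∧
      ∃ i : X' ⟶ pullback f (CohB1.ProjSpaceOver.toBase N S), IsClosedImmersion i ∧
        i ≫ pullback.fst _ _ = π ∧ i ≫ pullback.snd _ _ = j := by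
  classical
  haveI := compactSpace_of f
  haveI := qsep_of f
  obtain ⟨m, V, hcov, hV⟩ := exists_emb_cover f
  let c : Set (Set X) := irreducibleComponents X
  haveI : Fintype c := hirr.fintype
  let η : c → X := fun Z => Z.2.1.genericPoint
  have hηZ : ∀ Z : c, IsGenericPoint (η Z) Z.1 := fun Z =>
    Z.2.1.isGenericPoint_genericPoint (isClosed_of_mem_irreducibleComponents _ Z.2)
  let others : c → Set X := fun Z => ⋃₀ (c \ {Z.1})
  have hoc : ∀ Z, IsClosed (others Z) := fun Z =>
    by
      show IsClosed (⋃₀ (c \ {Z.1}))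
      rw [Set.sUnion_eq_biUnion]
      exact (hirr.subset Set.sdiff_subset).isClosed_biUnion fun C hC =>
        isClosed_of_mem_irreducibleComponents C hC.1
  have hno : ∀ Z, η Z ∉ others Z := by
    rintro Z ⟨C, ⟨hC, hne⟩, hCη⟩
    have : Z.1 ⊆ C := fun z hz =>
      ((hηZ Z).specializes hz).mem_closed (isClosed_of_mem_irreducibleComponents C hC) hCη
    exact hne (Set.Subset.antisymm (Z.2.2 hC.1 this) this)
  have hsep : ∀ Z Z' : c, Z ≠ Z' → ∀ z, z ∉ others Z → z ∉ others Z' → False := by
    intro Z Z' hne z h h'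
    by_cases hz : irreducibleComponent z = Z.1
    · exact h' ⟨_, ⟨irreducibleComponent_mem_irreducibleComponents z,
        fun e => hne (Subtype.ext (hz.symm.trans e))⟩, mem_irreducibleComponent⟩
    · exact h ⟨_, ⟨irreducibleComponent_mem_irreducibleComponents z, hz⟩, mem_irreducibleComponent⟩
  have hcl : ∀ (Z : c) (W : X.Opens), η Z ∈ closure (W : Set X) → η Z ∈ W := by
    intro Z W h
    obtain ⟨w, hw, hwW⟩ := mem_closure_iff.1 h _ (hoc Z).isOpen_compl (hno Z)
    have hwZ : w ∈ Z.1 := by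
      by_contra hne
      refine hw ⟨_, ⟨irreducibleComponent_mem_irreducibleComponents w, fun e => hne ?_⟩, mem_irreducibleComponent⟩
      exact (Set.mem_singleton_iff.1 e) ▸ mem_irreducibleComponent
    exact ((hηZ Z).specializes hwZ).mem_open W.2 hwW
  -- small affine opens around the generic points
  let O : Fin m → c → X.Opens := fun k Z =>
    ⟨(closure (V k : Set X) ∪ others Z)ᶜ, (isClosed_closure.union (hoc Z)).isOpen_compl⟩
  have hA : ∀ (k : Fin m) (Z : c), ∃ A : X.Opens, A ≤ O k Z ∧ Emb (A.ι ≫ f) ∧ IsAffineOpen A ∧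
      (η Z ∈ A ∨ η Z ∈ V k) := by
    intro k Z
    by_cases h : η Z ∈ V k
    · refine ⟨⊥, bot_le, ?_, isAffineOpen_bot X, Or.inr h⟩
      have := Emb.of_finset_disjoint f (fun _ : Unit => (⊥ : X.Opens)) ∅ (by simp) (by simp)
      rwa [Finset.sup_empty] at this
    · obtain ⟨A, hA, hx, hle, he⟩ := exists_emb_affine f (η Z) (O k Z) (by
        rintro (h' | h')
        · exact h (hcl Z _ h')
        · exact hno Z h')
      exact ⟨A, hle, he, hA, Or.inl hx⟩
  choose A hAle hAe hAaff hAη using hA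
  let W : Fin m → Option c → X.Opens := fun k o => o.elim (V k) (A k)
  let V' : Fin m → X.Opens := fun k => Finset.univ.sup (W k)
  have hV'e : ∀ k, Emb ((V' k).ι ≫ f) := fun k => by
    refine Emb.of_finset_disjoint f (W k) Finset.univ (fun o _ o' _ hne => ?_) fun o _ => ?_
    · refine disjoint_iff_inf_le.2 fun z hz => ?_
      obtain ⟨h, h'⟩ := hz
      cases o with
      | none => cases o' with
        | none => exact (hne rfl).elim
        | some Z => exact ((hAle k Z h') (Or.inl (subset_closure h))).elim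
      | some Z => cases o' with
        | none => exact ((hAle k Z h) (Or.inl (subset_closure h'))).elim
        | some Z' =>
          exact (hsep Z Z' (fun e => hne (congrArg some e)) z (fun q => hAle k Z h (Or.inr q))
            (fun q => hAle k Z' h' (Or.inr q))).elim
    · cases o with
      | none => exact (hV k).2
      | some Z => exact hAe k Z
  have hVV' : ∀ k o, W k o ≤ V' k := fun k o => Finset.le_sup (f := W k) (Finset.mem_univ o)
  have hη' : ∀ k Z, η Z ∈ V' k := fun k Z =>
    (hAη k Z).elim (fun h => hVV' k (some Z) h) (fun h => hVV' k none h)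
  have hB : ∀ Z : c, ∃ B : X.Opens, IsAffineOpen B ∧ η Z ∈ B ∧ B ≤ Finset.univ.inf V' := fun Z => by
    obtain ⟨_, ⟨B, hB, rfl⟩, hxB, hBle⟩ := X.isBasis_affineOpens.exists_subset_of_mem_open
      (show η Z ∈ ⨅ k, V' k from by
        show η Z ∈ ((⨅ k, V' k : X.Opens) : Set X)
        rw [Opens.coe_iInf]
        exact Set.mem_iInter.2 fun k => hη' k Z) (⨅ k, V' k).2
    exact ⟨B, hB, hxB, Finset.le_inf fun k _ => le_trans hBle (iInf_le V' k)⟩
  choose B hBaff hBη hBle using hB
  let U : X.Opens := ⨆ Z, B Z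
  have hUc : IsCompact (U : Set X) := by
    rw [Opens.coe_iSup]
    exact isCompact_iUnion fun Z => (hBaff Z).isCompact
  have hUd : Dense (U : Set X) := by
    rw [dense_iff_closure_eq]
    refine Set.eq_univ_of_forall fun z => ?_
    let Z : c := ⟨irreducibleComponent z, irreducibleComponent_mem_irreducibleComponents z⟩
    exact ((hηZ Z).specializes mem_irreducibleComponent).mem_closed isClosed_closure
      (subset_closure (Opens.mem_iSup.2 ⟨Z, hBη Z⟩))
  haveI := quasiCompact_ι U hUc
  obtain ⟨N, X', π, j, hj, hjb, hπ, hiso, hd, hr, hred, hirr', hi⟩ := exists_chow_core f U V'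
    (fun k => iSup_le fun Z => (hBle Z).trans (Finset.inf_le (Finset.mem_univ k)))
    (fun z _ => by
      obtain ⟨k, hk⟩ := hcov z
      exact Set.mem_iUnion.2 ⟨k, hVV' k none hk⟩) hV'e
  have hsurj : Surjective π := ⟨fun x => by
    have : x ∈ Set.range π := by rw [hr, hUd.closure_eq]; trivial
    exact this⟩
  have hred' : IsReduced X → IsReduced X' := fun h => hred (isReduced_of_isOpenImmersion U.ι)
  have hirr'' : IrreducibleSpace X → IrreducibleSpace X' := fun h => hirr' (by
    haveI : PreirreducibleSpace U.toScheme := by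
      refine Subtype.preirreducibleSpace ?_
      exact PreirreducibleSpace.isPreirreducible_univ.open_subset U.2 (Set.subset_univ _)
    haveI : Nonempty U.toScheme := by
      obtain ⟨x⟩ := h.toNonempty
      obtain ⟨y, hy⟩ := hUd.nonempty
      exact ⟨⟨y, hy⟩⟩
    exact IrreducibleSpace.mk inferInstance)
  refine ⟨N, X', π, j, U, hj, hjb, hπ, hsurj, hUd, hiso, hd, hred', hirr'', fun h => ?_, hi⟩
  haveI := hred' inferInstance
  haveI := hirr'' inferInstance
  exact isIntegral_of_irreducibleSpace_of_isReduced _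

/-- Chow's lemma with only surjectivity, for arbitrary `X`. -/
theorem exists_chow_surjective (f : X ⟶ S) [IsSeparated f] [LocallyOfFiniteType f] [QuasiCompact f]
    [CompactSpace S] [QuasiSeparatedSpace S] :
    ∃ (N : ℕ) (X' : Scheme.{u}) (π : X' ⟶ X) (j : X' ⟶ ProjSpaceOver N S),
      IsImmersion j ∧ j ≫ CohB1.ProjSpaceOver.toBase N S = π ≫ f ∧ IsProper π ∧ Surjective π := by
  classical
  haveI := compactSpace_of f
  haveI := qsep_of f
  obtain ⟨m, V, hcov, hV⟩ := exists_emb_cover f
  let κ := ULift.{u} (Finset (Fin m))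
  let C : κ → Closeds X := fun K =>
    ⟨(⋃ i ∈ {i : Fin m | i ∉ K.down}, (V i : Set X))ᶜ, (isOpen_biUnion fun i _ => (V i).2).isClosed_compl⟩
  let I := fun K => Scheme.IdealSheafData.vanishingIdeal (C K)
  have hpiece : ∀ K, ∃ (N : ℕ) (X' : Scheme.{u}) (π : X' ⟶ X) (j : X' ⟶ ProjSpaceOver N S),
      IsImmersion j ∧ j ≫ CohB1.ProjSpaceOver.toBase N S = π ≫ f ∧ IsProper π ∧
      ∀ x, x ∈ C K → x ∈ K.down.inf V → x ∈ Set.range π := by
    intro K
    let ι := (I K).subschemeι
    haveI : CompactSpace (I K).subscheme := QuasiCompact.compactSpace_of_compactSpace ι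
    haveI : QuasiSeparatedSpace (I K).subscheme := quasiSeparatedSpace_of_quasiSeparated ι
    let U : (I K).subscheme.Opens := ι ⁻¹ᵁ K.down.inf V
    haveI := quasiCompact_ι U (ι.isCompact_preimage (isCompact_inf _ _ fun i _ => (hV i).1.isCompact))
    let e : Fin K.down.card ≃ K.down := K.down.equivFin.symm
    have hmem : ∀ z, ι z ∈ C K := fun z => by
      have : ι z ∈ Set.range ι := ⟨z, rfl⟩
      rwa [Scheme.IdealSheafData.range_subschemeι, Scheme.IdealSheafData.coe_support_vanishingIdeal] at this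
    obtain ⟨N, X', π, j, hj, hjb, hπ, -, -, hr, -⟩ := exists_chow_core (ι ≫ f) U (fun i => ι ⁻¹ᵁ V (e i).1)
      (fun i => (Opens.map ι.base).monotone (Finset.inf_le (e i).2)) (fun z _ => by
        obtain ⟨l, hl⟩ := hcov (ι z)
        have hlK : l ∈ K.down := by
          by_contra h
          exact hmem z (Set.mem_biUnion h hl)
        refine Set.mem_iUnion.2 ⟨e.symm ⟨l, hlK⟩, ?_⟩
        rw [Equiv.apply_symm_apply]
        exact hl) (fun i => by
        rw [← morphismRestrict_ι_assoc]
        exact (hV _).2.comp_left _)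
    haveI := hπ
    refine ⟨N, X', π ≫ ι, j, hj, by rw [Category.assoc]; exact hjb,
      MorphismProperty.comp_mem @IsProper _ _ hπ inferInstance, fun x hx hx' => ?_⟩
    obtain ⟨z, rfl⟩ : x ∈ Set.range ι := by
      rwa [Scheme.IdealSheafData.range_subschemeι, Scheme.IdealSheafData.coe_support_vanishingIdeal]
    obtain ⟨w, hw⟩ : z ∈ Set.range π := hr ▸ subset_closure hx'
    exact ⟨w, by rw [Scheme.Hom.comp_apply, hw]⟩
  choose N Y π j hj hjb hπ hπs using hpiece
  let πall := Sigma.desc π
  have hpp : IsProper πall := HTop74.isProper_sigmaDesc π hπ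
  have hemb : Emb (πall ≫ f) := by
    let R : κ → (∐ Y).Opens := fun K => (Sigma.ι Y K).opensRange
    have htop : Finset.univ.sup R = ⊤ := top_le_iff.1 fun z _ => by
      obtain ⟨⟨K, w⟩, rfl⟩ := (sigmaMk Y).surjective z
      exact Finset.le_sup (f := R) (Finset.mem_univ K) ⟨w, (sigmaMk_mk Y K w).symm⟩
    have h := Emb.of_finset_disjoint (πall ≫ f) R Finset.univ (fun K _ L _ hne => disjoint_opensRange_sigmaι Y K L hne)
      (fun K _ => by
        have e : (Sigma.ι Y K).isoOpensRange.inv ≫ Sigma.ι Y K = (R K).ι :=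
          Scheme.Hom.isoOpensRange_inv_comp _
        rw [← e, Category.assoc, Sigma.ι_desc_assoc]
        exact Emb.comp_left ⟨N K, j K, hj K, hjb K⟩ _)
    rw [htop] at h
    have := h.comp_left (Scheme.topIso (∐ Y)).inv
    rwa [← Category.assoc, show (Scheme.topIso (∐ Y)).inv ≫ (⊤ : (∐ Y).Opens).ι = 𝟙 _ from
      (Scheme.topIso (∐ Y)).inv_hom_id, Category.id_comp] at this
  obtain ⟨M, t, ht, htb⟩ := hemb
  refine ⟨M, _, πall, t, ht, htb, hpp, ⟨fun x => ?_⟩⟩
  let K : κ := ⟨Finset.univ.filter fun i => x ∈ V i⟩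
  have hC : x ∈ C K := by
    intro hx
    obtain ⟨i, hi, hxi⟩ := Set.mem_iUnion₂.1 hx
    exact hi (Finset.mem_filter.2 ⟨Finset.mem_univ _, hxi⟩)
  have hI : ∀ s : Finset (Fin m), s ⊆ K.down → x ∈ s.inf V := fun s => by
    induction s using Finset.induction with
    | empty => intro _; simp
    | insert i s _ ih =>
      intro hs
      rw [Finset.inf_insert]
      exact ⟨(Finset.mem_filter.1 (hs (Finset.mem_insert_self i s))).2, ih ((Finset.subset_insert i s).trans hs)⟩
  obtain ⟨w, hw⟩ := hπs K x hC (hI _ subset_rfl)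
  exact ⟨Sigma.ι Y K w, by rw [← Scheme.Hom.comp_apply, Sigma.ι_desc]; exact hw⟩

end Groth.Agent.Chow34
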